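import Groth.Agent.H23.RigidAb
import Groth.Agent.H23.CubeAb
import Groth.Agent.GeomConn5.Irred
import Groth.Prelude.Def_W4bk6langav68Chow

/-!
Homomorphisms between base changes of abelian varieties along a primary field extension descend.
-/

set_option linter.style.haveILetI false
set_option backward.isDefEq.respectTransparency false
set_option backward.isDefEq.respectTransparency.types false

universe u

open CategoryTheory CategoryTheory.Limits MonoidalCategory CartesianMonoidalCategory MonObj AlgebraicGeometry

namespace Groth.Agent.AVChow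

variable (k K : Type u) [Field k] [Field K] [Algebra k K]

theorem irreducible_sq (hK : AbVar.IsPrimaryExt k K) :
    IrreducibleSpace ↥(pullback (AbVar.ext k K) (AbVar.ext k K)) :=
  (GeomConn5.geometricallyIrreducible_spec_field k K hK).geometrically_irreducibleSpace _ _ _
    (IsPullback.of_hasPullback _ _)

instance ext_surjective : Surjective (AbVar.ext k K) := ⟨fun x => ⟨IsLocalRing.closedPoint K, Subsingleton.elim _ _⟩⟩

instance ext_quasiCompact : QuasiCompact (AbVar.ext k K) := inferInstance

instance ext_flat : Flat (AbVar.ext k K) := inferInstance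

variable {k K}

/-- The projection from the base change. -/
theorem fst_epi (A : Over (Spec (CommRingCat.of k))) : EffectiveEpi (pullback.fst A.hom (AbVar.ext k K)) := by
  infer_instance

theorem map_injective {A B : Over (Spec (CommRingCat.of k))} {f g : A ⟶ B}
    (h : (Over.pullback (AbVar.ext k K)).map f = (Over.pullback (AbVar.ext k K)).map g) : f = g := by
  haveI := fst_epi (K := K) A
  apply Over.OverMorphism.ext
  rw [← cancel_epi (pullback.fst A.hom (AbVar.ext k K))]
  have h2 := congrArg (fun φ => φ.left ≫ pullback.fst B.hom (AbVar.ext k K)) h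
  simpa [Over.pullback] using h2

/-- The unit of the base change lies over the unit. -/
theorem unit_fst {S S' : Scheme.{u}} (h : S' ⟶ S) (A : Over S) [GrpObj A] :
    η[Red.bc h A].left ≫ pullback.fst A.hom h = h ≫ η[A].left := by
  have e : (Functor.LaxMonoidal.ε (Over.pullback h)).left ≫ pullback.fst (𝟙 S) h = h := by
    have w := Over.w (Functor.LaxMonoidal.ε (Over.pullback h))
    have c : pullback.fst (𝟙 S) h = pullback.snd (𝟙 S) h ≫ h := (Category.comp_id _).symm.trans pullback.condition
    rw [c, ← Category.assoc]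
    exact (congrArg (· ≫ h) w).trans (Category.id_comp h)
  show ((Functor.LaxMonoidal.ε (Over.pullback h)).left ≫ ((Over.pullback h).map η[A]).left) ≫ pullback.fst A.hom h = _
  have w2 : ((Over.pullback h).map η[A]).left ≫ pullback.fst A.hom h = pullback.fst (𝟙 S) h ≫ η[A].left :=
    pullback.lift_fst _ _ _
  rw [Category.assoc, w2, ← Category.assoc]
  exact congrArg (· ≫ η[A].left) e

/-- A homomorphism (indeed any pointed map) between base changes along a primary extension descends. -/
theorem exists_map_eq (hK : AbVar.IsPrimaryExt k K)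
    (A : Over (Spec (CommRingCat.of k))) [GrpObj A] [IsProper A.hom] [GeometricallyIntegral A.hom]
    (B : Over (Spec (CommRingCat.of k))) [GrpObj B] [IsProper B.hom] [GeometricallyIntegral B.hom]
    (α : Red.bc (AbVar.ext k K) A ⟶ Red.bc (AbVar.ext k K) B)
    (hα : η[Red.bc (AbVar.ext k K) A] ≫ α = η[Red.bc (AbVar.ext k K) B]) :
    ∃ α₀ : A ⟶ B, (Over.pullback (AbVar.ext k K)).map α₀ = α := by
  let h := AbVar.ext k K
  let S : Scheme.{u} := pullback h h
  haveI hS : IrreducibleSpace ↥S := irreducible_sq k K hK
  let p₁ : S ⟶ Spec (CommRingCat.of K) := pullback.fst h h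
  let p₂ : S ⟶ Spec (CommRingCat.of K) := pullback.snd h h
  let s : S ⟶ Spec (CommRingCat.of k) := p₁ ≫ h
  have hs₂ : p₂ ≫ h = s := pullback.condition.symm
  let T : Scheme.{u} := pullback A.hom s
  let t : T ⟶ A.left := pullback.fst A.hom s
  let p : T ⟶ S := pullback.snd A.hom s
  let q : pullback A.hom h ⟶ A.left := pullback.fst A.hom h
  let φ : pullback A.hom h ⟶ B.left := α.left ≫ pullback.fst B.hom h
  have hφ : φ ≫ B.hom = pullback.snd A.hom h ≫ h := by
    show (α.left ≫ pullback.fst B.hom h) ≫ B.hom = _
    rw [Category.assoc, pullback.condition, ← Category.assoc]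
    exact congrArg (· ≫ h) (Over.w α)
  let v₁ : T ⟶ pullback A.hom h := pullback.lift t (p ≫ p₁)
    (by show t ≫ A.hom = _; rw [pullback.condition, Category.assoc])
  let v₂ : T ⟶ pullback A.hom h := pullback.lift t (p ≫ p₂)
    (by show t ≫ A.hom = _; rw [pullback.condition, Category.assoc, hs₂])
  let TO : Over (Spec (CommRingCat.of k)) := Over.mk (p ≫ s)
  let u₁ : TO ⟶ B := Over.homMk (v₁ ≫ φ) (by
    show (v₁ ≫ φ) ≫ B.hom = p ≫ s
    rw [Category.assoc, hφ, pullback.lift_snd_assoc, Category.assoc])
  let u₂ : TO ⟶ B := Over.homMk (v₂ ≫ φ) (by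
    show (v₂ ≫ φ) ≫ B.hom = p ≫ s
    rw [Category.assoc, hφ, pullback.lift_snd_assoc, Category.assoc, hs₂])
  let d : TO ⟶ B := u₁ * u₂⁻¹
  -- the unit section
  have hη : η[A].left ≫ A.hom = 𝟙 (Spec (CommRingCat.of k)) := Over.w η[A]
  let e : S ⟶ T := pullback.lift (s ≫ η[A].left) (𝟙 S) (by
    rw [Category.assoc, hη, Category.comp_id, Category.id_comp])
  have he : e ≫ p = 𝟙 S := pullback.lift_snd _ _ _
  have hφη : ∀ {Z : Scheme.{u}} (z : Z ⟶ Spec (CommRingCat.of K)),
      pullback.lift (z ≫ h ≫ η[A].left) z (by rw [Category.assoc, Category.assoc, hη, Category.comp_id]) ≫ φ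
        = z ≫ h ≫ η[B].left := by
    intro Z z
    have e1 : pullback.lift (z ≫ h ≫ η[A].left) z (by rw [Category.assoc, Category.assoc, hη, Category.comp_id])
        = z ≫ η[Red.bc h A].left := by
      apply pullback.hom_ext
      · rw [pullback.lift_fst, Category.assoc, unit_fst]
      · rw [pullback.lift_snd, Category.assoc]
        exact ((congrArg (z ≫ ·) (Over.w η[Red.bc h A])).trans (Category.comp_id z)).symm
    rw [e1, Category.assoc]
    congr 1
    show η[Red.bc h A].left ≫ α.left ≫ pullback.fst B.hom h = _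
    rw [← Category.assoc, ← Over.comp_left, hα, unit_fst]
  let SO : Over (Spec (CommRingCat.of k)) := Over.mk s
  let eO : SO ⟶ TO := Over.homMk e (by show e ≫ p ≫ s = s; rw [reassoc_of% he])
  have heu : eO ≫ u₁ = toUnit SO ≫ η[B] ∧ eO ≫ u₂ = toUnit SO ≫ η[B] := by
    constructor
    · apply Over.OverMorphism.ext
      show e ≫ v₁ ≫ φ = s ≫ η[B].left
      rw [← Category.assoc, Category.assoc p₁ h, ← hφη p₁]
      congr 1
      apply pullback.hom_ext
      · rw [pullback.lift_fst, Category.assoc, pullback.lift_fst, pullback.lift_fst]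
        exact Category.assoc _ _ _
      · rw [pullback.lift_snd, Category.assoc, pullback.lift_snd, reassoc_of% he]
    · apply Over.OverMorphism.ext
      show e ≫ v₂ ≫ φ = s ≫ η[B].left
      rw [← Category.assoc, ← hs₂, Category.assoc p₂ h, ← hφη p₂]
      congr 1
      apply pullback.hom_ext
      · rw [pullback.lift_fst, Category.assoc, pullback.lift_fst, pullback.lift_fst, ← Category.assoc p₂, hs₂]
      · rw [pullback.lift_snd, Category.assoc, pullback.lift_snd, reassoc_of% he]
  have hed : eO ≫ d = (1 : SO ⟶ B) := by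
    simp only [d, MonObj.comp_mul, GrpObj.comp_inv, heu.1, heu.2, mul_inv_cancel]
  -- every fibre is collapsed
  haveI := H23.CubeAb.geometricallyConnected_of_integral A.hom
  haveI : IsProper p := MorphismProperty.pullback_snd (P := @IsProper) A.hom s inferInstance
  haveI : Flat p := MorphismProperty.pullback_snd (P := @Flat) A.hom s inferInstance
  haveI : LocallyOfFinitePresentation p :=
    MorphismProperty.pullback_snd (P := @LocallyOfFinitePresentation) A.hom s inferInstance
  have h0 : H23.RigidApply.ConstFibres p := (H23.RigidGamma.constFibres A.hom).baseChange s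
  have hg : p ≫ e ≫ d.left ≫ B.hom = d.left ≫ B.hom := by
    rw [Over.w d]
    show p ≫ e ≫ p ≫ s = p ≫ s
    rw [reassoc_of% he]
  obtain ⟨C, hCc, hC, -⟩ := H23.RigidGen.of_section p h0 e he B.hom d.left hg
  have hmem : ∃ x : S, x ∈ H23.RigidNoeth.collapsed p d.left := by
    let Δ : Spec (CommRingCat.of K) ⟶ S := pullback.lift (𝟙 _) (𝟙 _) rfl
    let j : pullback A.hom h ⟶ T := pullback.lift q (pullback.snd A.hom h ≫ Δ) (by
      rw [pullback.condition, Category.assoc]
      congr 1
      show h = Δ ≫ p₁ ≫ h
      rw [pullback.lift_fst_assoc, Category.id_comp])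
    let jO : (Over.mk (pullback.snd A.hom h ≫ h) : Over (Spec (CommRingCat.of k))) ⟶ TO :=
      Over.homMk j (by
        show j ≫ p ≫ s = _
        rw [pullback.lift_snd_assoc, Category.assoc]
        congr 1
        show Δ ≫ p₁ ≫ h = h
        rw [pullback.lift_fst_assoc, Category.id_comp])
    have hj₁ : j ≫ v₁ = 𝟙 _ := by
      apply pullback.hom_ext
      · rw [Category.assoc, pullback.lift_fst, pullback.lift_fst, Category.id_comp]
      · rw [Category.assoc, pullback.lift_snd, pullback.lift_snd_assoc, Category.assoc, pullback.lift_fst, Category.comp_id,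
          Category.id_comp]
    have hj₂ : j ≫ v₂ = 𝟙 _ := by
      apply pullback.hom_ext
      · rw [Category.assoc, pullback.lift_fst, pullback.lift_fst, Category.id_comp]
      · rw [Category.assoc, pullback.lift_snd, pullback.lift_snd_assoc, Category.assoc, pullback.lift_snd, Category.comp_id,
          Category.id_comp]
    have hjd : jO ≫ d = 1 := by
      have e12 : jO ≫ u₁ = jO ≫ u₂ := by
        apply Over.OverMorphism.ext
        show j ≫ v₁ ≫ φ = j ≫ v₂ ≫ φ
        rw [reassoc_of% hj₁, reassoc_of% hj₂]
      simp only [d, MonObj.comp_mul, GrpObj.comp_inv, e12, mul_inv_cancel]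
    refine ⟨Δ (IsLocalRing.closedPoint K), η[B].left (IsLocalRing.closedPoint k), fun z hz => ?_⟩
    have hsq : IsPullback j (pullback.snd A.hom h) p Δ := by
      refine IsPullback.of_right (h₁₂ := t) (h₂₂ := s) (v₁₃ := A.hom) ?_ (pullback.lift_snd _ _ _)
        (IsPullback.of_hasPullback A.hom s)
      have e2 : Δ ≫ s = h := by
        show Δ ≫ p₁ ≫ h = h
        rw [pullback.lift_fst_assoc, Category.id_comp]
      rw [pullback.lift_fst, e2]
      exact IsPullback.of_hasPullback A.hom h
    obtain ⟨w, hw, -⟩ := Scheme.exists_preimage_of_isPullback hsq z (IsLocalRing.closedPoint K) hz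
    subst hw
    have e3 : j ≫ d.left = (pullback.snd A.hom h ≫ h) ≫ η[B].left := congrArg CommaMorphism.left hjd
    rw [← Scheme.Hom.comp_apply, e3, Scheme.Hom.comp_apply]
    exact congrArg _ (Subsingleton.elim _ _)
  have hall : ∀ x, x ∈ H23.RigidNoeth.collapsed p d.left := by
    intro x
    rw [← hC]
    have := (IsClopen.eq_univ ⟨hCc, C.2⟩ (s := (C : Set S)) (by rw [hC]; exact hmem))
    rw [this]; trivial
  have hd : d = 1 := by
    have e1 : d.left = p ≫ e ≫ d.left := H23.RigidGen.eq_comp_section p h0 e he d.left hall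
    apply Over.OverMorphism.ext
    rw [e1]
    have e2 : e ≫ d.left = s ≫ η[B].left := congrArg CommaMorphism.left hed
    rw [e2, ← Category.assoc]
    rfl
  have hu : u₁ = u₂ := by
    simpa [d, mul_inv_eq_one] using hd
  haveI := fst_epi (K := K) A
  have cond : ∀ {Z : Scheme.{u}} (g₁ g₂ : Z ⟶ pullback A.hom h), g₁ ≫ q = g₂ ≫ q → g₁ ≫ φ = g₂ ≫ φ := by
    intro Z g₁ g₂ hgq
    have hc : (g₁ ≫ pullback.snd A.hom h) ≫ h = (g₂ ≫ pullback.snd A.hom h) ≫ h := by
      simp only [Category.assoc, ← pullback.condition]
      exact (reassoc_of% hgq) A.hom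
    let z : Z ⟶ T := pullback.lift (g₁ ≫ q) (pullback.lift _ _ hc) (by
      show _ = _ ≫ p₁ ≫ h
      rw [pullback.lift_fst_assoc, Category.assoc, pullback.condition, Category.assoc])
    have z1 : z ≫ v₁ = g₁ := by
      apply pullback.hom_ext
      · rw [Category.assoc, pullback.lift_fst, pullback.lift_fst]
      · rw [Category.assoc, pullback.lift_snd, pullback.lift_snd_assoc, pullback.lift_fst]
    have z2 : z ≫ v₂ = g₂ := by
      apply pullback.hom_ext
      · rw [Category.assoc, pullback.lift_fst, pullback.lift_fst, hgq]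
      · rw [Category.assoc, pullback.lift_snd, pullback.lift_snd_assoc, pullback.lift_snd]
    have := congrArg (fun f => z ≫ CommaMorphism.left f) hu
    show g₁ ≫ φ = g₂ ≫ φ
    rw [← z1, ← z2, Category.assoc, Category.assoc]
    exact this
  let a : A.left ⟶ B.left := EffectiveEpi.desc q φ cond
  have ha : q ≫ a = φ := EffectiveEpi.fac _ _ _
  refine ⟨Over.homMk a ?_, ?_⟩
  · rw [← cancel_epi q, reassoc_of% ha, hφ]
    exact pullback.condition.symm
  · apply Over.OverMorphism.ext
    apply pullback.hom_ext
    · simp only [Over.pullback_map_left, pullback.lift_fst, Over.homMk_left]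
      exact ha
    · simp only [Over.pullback_map_left, pullback.lift_snd]
      exact (Over.w α).symm

/-- A homomorphism between base changes along a primary extension descends to a homomorphism. -/
theorem exists_hom_map_eq (hK : AbVar.IsPrimaryExt k K)
    (A : Over (Spec (CommRingCat.of k))) [GrpObj A] [IsProper A.hom] [GeometricallyIntegral A.hom]
    (B : Over (Spec (CommRingCat.of k))) [GrpObj B] [IsProper B.hom] [GeometricallyIntegral B.hom]
    (α : Red.bc (AbVar.ext k K) A ⟶ Red.bc (AbVar.ext k K) B) [IsMonHom α] :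
    ∃ α₀ : A ⟶ B, IsMonHom α₀ ∧ (Over.pullback (AbVar.ext k K)).map α₀ = α := by
  obtain ⟨α₀, h₀⟩ := exists_map_eq hK A B α (IsMonHom.one_hom (f := α))
  refine ⟨α₀, ⟨?_, ?_⟩, h₀⟩
  · apply map_injective (K := K)
    have := IsMonHom.one_hom (f := α)
    simp only [Functor.obj.η_def, Category.assoc, ← h₀, ← Functor.map_comp, cancel_epi] at this
    exact this
  · apply map_injective (K := K)
    have := IsMonHom.mul_hom (f := α)
    simp only [Functor.obj.μ_def, Category.assoc, ← h₀, ← Functor.map_comp] at this
    rw [Functor.LaxMonoidal.μ_natural_assoc, cancel_epi] at this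
    rw [this, Functor.map_comp]

end Groth.Agent.AVChow
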