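import Groth.Agent.SmoothingLib.GeomFrameBasic
import Groth.Agent.FBaseLib.Reduced
import Mathlib.AlgebraicGeometry.Geometrically.Reduced
import Mathlib.AlgebraicGeometry.Morphisms.FormallyUnramified

/-!
A reduced scheme over a field with a dense set of points having separable residue fields is geometrically reduced.
-/

set_option linter.style.haveILetI false
set_option backward.isDefEq.respectTransparency false
set_option backward.isDefEq.respectTransparency.types false

universe u

open CategoryTheory CategoryTheory.Limits AlgebraicGeometry
open scoped TensorProduct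

namespace Groth.Agent.AVChow

variable {k : Type u} [Field k]

/-- An algebra embedded in a product of geometrically reduced algebras is geometrically reduced. -/
theorem isGeometricallyReduced_of_family {R : Type u} [CommRing R] [Algebra k R] {ι : Type u} (F : ι → Type u)
    [∀ i, CommRing (F i)] [∀ i, Algebra k (F i)] [∀ i, Algebra.IsGeometricallyReduced k (F i)]
    (φ : ∀ i, R →ₐ[k] F i) (h : ∀ a : R, (∀ i, φ i a = 0) → a = 0) :
    Algebra.IsGeometricallyReduced k R := by
  rw [Algebra.isGeometricallyReduced_field_iff]
  let kb := AlgebraicClosure k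
  let b := Module.Free.chooseBasis k kb
  refine ⟨fun x hx => ?_⟩
  have hi : ∀ i, Algebra.TensorProduct.map (AlgHom.id k kb) (φ i) x = 0 := fun i => by
    haveI : IsReduced (kb ⊗[k] F i) := (Algebra.isGeometricallyReduced_field_iff k (F i)).1 inferInstance
    exact (hx.map _).eq_zero
  apply (TensorProduct.equivFinsuppOfBasisLeft b).injective
  rw [map_zero]
  refine Finsupp.ext fun j => h _ fun i => ?_
  have key : ∀ z : kb ⊗[k] R,
      φ i ((TensorProduct.equivFinsuppOfBasisLeft b) z j) =
        (TensorProduct.equivFinsuppOfBasisLeft b) (Algebra.TensorProduct.map (AlgHom.id k kb) (φ i) z) j := by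
    intro z
    induction z using TensorProduct.induction_on with
    | zero => simp
    | tmul a r =>
      rw [Algebra.TensorProduct.map_tmul, TensorProduct.equivFinsuppOfBasisLeft_apply_tmul_apply,
        TensorProduct.equivFinsuppOfBasisLeft_apply_tmul_apply, map_smul]
      rfl
    | add a c ha hc => simp only [map_add, Finsupp.add_apply, ha, hc]
  rw [key, hi i]
  simp

/-- A reduced scheme over a field with a dense set of points whose residue fields are finitely generated and
unramified over the field is geometrically reduced. -/
theorem geometricallyReduced_of_dense {X : Scheme.{u}} (f : X ⟶ Spec (CommRingCat.of k)) [IsReduced X]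
    (S : Set X) (hS : Dense S)
    (h : ∀ s ∈ S, FormallyUnramified (X.fromSpecResidueField s ≫ f) ∧
      LocallyOfFiniteType (X.fromSpecResidueField s ≫ f)) :
    GeometricallyReduced f := by
  refine ⟨fun L _ y Z fst snd hP => ?_⟩
  haveI : IsReduced (pullback f y) := by
    refine @IsReduced.of_openCover _ (X.affineCover.pullback₁ (pullback.fst f y)) fun i => ?_
    let j : X.affineCover.X i ⟶ X := X.affineCover.f i
    show IsReduced (pullback (pullback.fst f y) j)
    haveI : IsReduced (pullback (j ≫ f) y) := by
      let R := Γ(X.affineCover.X i, ⊤)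
      obtain ⟨R, ⟨e⟩⟩ : ∃ R : CommRingCat.{u}, Nonempty (Spec R ≅ X.affineCover.X i) :=
        ⟨_, ⟨(X.affineCover.X i).isoSpec.symm⟩⟩
      let g : Spec R ⟶ X := e.hom ≫ j
      obtain ⟨ψ, hψ⟩ := Spec.map_surjective (g ≫ f)
      obtain ⟨χ, hχ⟩ := Spec.map_surjective y
      letI : Algebra k R := ψ.hom.toAlgebra
      letI : Algebra k L := χ.hom.toAlgebra
      haveI : IsReduced (Spec R) := isReduced_of_isOpenImmersion g
      haveI : _root_.IsReduced R := affine_isReduced_iff R |>.1 inferInstance
      let T : Set (Spec R) := g ⁻¹' S
      have hT : Dense T := hS.preimage g.isOpenEmbedding.isOpenMap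
      choose φ hφ using fun p : T => Spec.map_surjective ((Spec R).fromSpecResidueField p.1)
      letI : ∀ p : T, Algebra k ((Spec R).residueField p.1) := fun p => ((φ p).hom.comp ψ.hom).toAlgebra
      haveI : ∀ p : T, Algebra.IsGeometricallyReduced k ((Spec R).residueField p.1) := fun p => by
        have hcomp : (Spec R).fromSpecResidueField p.1 ≫ g ≫ f =
            Spec.map (CommRingCat.ofHom (algebraMap k ((Spec R).residueField p.1))) := by
          rw [← hψ, ← hφ, ← Spec.map_comp]
          rfl
        have hcomp' : (Spec R).fromSpecResidueField p.1 ≫ g ≫ f =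
            Spec.map (g.residueFieldMap p.1) ≫ X.fromSpecResidueField (g p.1) ≫ f :=
          (Scheme.Hom.SpecMap_residueFieldMap_fromSpecResidueField_assoc g p.1 f).symm
        obtain ⟨h1, h2⟩ := h _ p.2
        haveI : IsIso (g.residueFieldMap p.1) := inferInstance
        have u1 : FormallyUnramified (Spec.map (CommRingCat.ofHom (algebraMap k ((Spec R).residueField p.1)))) := by
          rw [← hcomp, hcomp']; exact (MorphismProperty.cancel_left_of_respectsIso @FormallyUnramified _ _).2 h1
        have u2 : LocallyOfFiniteType (Spec.map (CommRingCat.ofHom (algebraMap k ((Spec R).residueField p.1)))) := by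
          rw [← hcomp, hcomp']; exact (MorphismProperty.cancel_left_of_respectsIso @LocallyOfFiniteType _ _).2 h2
        rw [HasRingHomProperty.Spec_iff (P := @FormallyUnramified)] at u1
        rw [HasRingHomProperty.Spec_iff (P := @LocallyOfFiniteType)] at u2
        haveI : Algebra.FormallyUnramified k ((Spec R).residueField p.1) := RingHom.formallyUnramified_algebraMap.1 u1
        haveI : Algebra.FiniteType k ((Spec R).residueField p.1) := RingHom.finiteType_algebraMap.1 u2
        exact SmoothingLib.GeomDiff.isGeometricallyReduced_of_formallyUnramified _ _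
      haveI : Algebra.IsGeometricallyReduced k R := by
        refine isGeometricallyReduced_of_family (fun p : T => ((Spec R).residueField p.1 : Type u))
          (fun p => { (φ p).hom with commutes' := fun _ => rfl }) fun a ha => ?_
        by_contra ha0
        have hne : (PrimeSpectrum.basicOpen a : Set (PrimeSpectrum R)).Nonempty := by
          by_contra hc
          rw [Set.not_nonempty_iff_eq_empty] at hc
          exact ha0 ((PrimeSpectrum.basicOpen_eq_bot_iff a).1 (TopologicalSpace.Opens.ext hc)).eq_zero
        obtain ⟨p, hpa, hpT⟩ := hT.inter_open_nonempty _ (PrimeSpectrum.basicOpen a).2 hne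
        refine hpa ?_
        have hp : Spec.map (φ ⟨p, hpT⟩) (IsLocalRing.closedPoint _) = p := by
          rw [hφ]; exact Scheme.fromSpecResidueField_apply _ _
        rw [← hp]
        show (φ ⟨p, hpT⟩).hom a ∈ IsLocalRing.maximalIdeal _
        rw [show (φ ⟨p, hpT⟩).hom a = 0 from ha ⟨p, hpT⟩]
        exact Ideal.zero_mem _
      haveI : _root_.IsReduced (R ⊗[k] L) := by
        haveI := FBaseLib.isReduced_field_tensor (k := k) R L
        exact isReduced_of_injective (Algebra.TensorProduct.comm k R L) (Algebra.TensorProduct.comm k R L).injective
      have hq : IsReduced (pullback (g ≫ f) y) := by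
        rw [show g ≫ f = Spec.map (CommRingCat.ofHom (algebraMap k R)) from hψ.symm,
          show y = Spec.map (CommRingCat.ofHom (algebraMap k L)) from hχ.symm]
        exact isReduced_of_isOpenImmersion (pullbackSpecIso k R L).hom
      exact isReduced_of_isOpenImmersion
        (pullback.map (j ≫ f) y (g ≫ f) y e.inv (𝟙 _) (𝟙 _) (by simp [g]) (by simp))
    exact isReduced_of_isOpenImmersion
      ((pullbackSymmetry _ _ ≪≫ pullbackRightPullbackFstIso f y j).hom)
  exact isReduced_of_isOpenImmersion hP.isoPullback.hom

end Groth.Agent.AVChow
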