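import Groth.Agent.AVChow.SubDescent
import Groth.Agent.AVIsog3.Simple
import Groth.Agent.GrpSchLib.RigidHom
import Groth.Agent.H23.FinCondSch

/-!
The Chow image of an abelian variety along a primary extension.
-/

set_option linter.style.haveILetI false
set_option backward.isDefEq.respectTransparency false
set_option backward.isDefEq.respectTransparency.types false

universe u

open CategoryTheory CategoryTheory.Limits MonoidalCategory CartesianMonoidalCategory MonObj GrpObj AlgebraicGeometry

namespace Groth.Agent.AVChow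

variable {k : Type u} [Field k]

/-- A factor of a homomorphism through a monomorphic homomorphism is a homomorphism. -/
theorem isMonHom_of_comp_mono {C : Type*} [Category C] [CartesianMonoidalCategory C] {A B D : C}
    [MonObj A] [MonObj B] [MonObj D] (g : A ⟶ B) (i : B ⟶ D) [IsMonHom i] [Mono i] [IsMonHom (g ≫ i)] :
    IsMonHom g := by
  constructor
  · rw [← cancel_mono i, Category.assoc, IsMonHom.one_hom (g ≫ i), IsMonHom.one_hom i]
  · rw [← cancel_mono i, Category.assoc, Category.assoc, IsMonHom.mul_hom (g ≫ i), IsMonHom.mul_hom i,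
      ← Category.assoc (g ⊗ₘ g), MonoidalCategory.tensorHom_comp_tensorHom]

/-- Base changes of abelian varieties are abelian varieties. -/
theorem isProper_bc {K : Type u} [Field K] (h : Spec (CommRingCat.of K) ⟶ Spec (CommRingCat.of k))
    (B : Over (Spec (CommRingCat.of k))) [IsProper B.hom] : IsProper (Red.bc h B).hom :=
  inferInstanceAs (IsProper (pullback.snd B.hom h))

theorem geometricallyIntegral_bc {K : Type u} [Field K] (h : Spec (CommRingCat.of K) ⟶ Spec (CommRingCat.of k))
    (B : Over (Spec (CommRingCat.of k))) [GeometricallyIntegral B.hom] : GeometricallyIntegral (Red.bc h B).hom :=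
  inferInstanceAs (GeometricallyIntegral (pullback.snd B.hom h))

theorem isCommMonObj_av (A : Over (Spec (CommRingCat.of k))) [GrpObj A] [IsProper A.hom]
    [GeometricallyIntegral A.hom] : IsCommMonObj A :=
  isCommMonObj_of_isProper_of_geometricallyIntegral A

variable {K : Type u} [Field K] [Algebra k K]

/-- Every homomorphism to a base change of an abelian variety factors through a surjective one. -/
theorem exists_image_bc (hK : AbVar.IsPrimaryExt k K)
    (A : Over (Spec (CommRingCat.of K))) [GrpObj A] [IsProper A.hom] [GeometricallyIntegral A.hom]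
    (B : Over (Spec (CommRingCat.of k))) [GrpObj B] [IsProper B.hom] [GeometricallyIntegral B.hom]
    (α : A ⟶ Red.bc (AbVar.ext k K) B) [IsMonHom α] :
    ∃ (C : Over (Spec (CommRingCat.of k))) (_ : GrpObj C) (_ : IsProper C.hom) (_ : GeometricallyIntegral C.hom)
      (j : C ⟶ B) (lam : A ⟶ Red.bc (AbVar.ext k K) C), IsMonHom j ∧ IsMonHom lam ∧ Surjective lam.left ∧
        lam ≫ (Over.pullback (AbVar.ext k K)).map j = α := by
  haveI := isProper_bc (AbVar.ext k K) B
  haveI := geometricallyIntegral_bc (AbVar.ext k K) B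
  haveI := isCommMonObj_av A
  haveI := isCommMonObj_av (Red.bc (AbVar.ext k K) B)
  obtain ⟨N, _, _, _, i', q, _, _, _, hq, hqi⟩ := AVIsog3.exists_image_factor α
  obtain ⟨C, _, j, _, _, _, hjc, e, he⟩ := exists_subvariety_descent hK B N i'
  haveI : IsClosedImmersion ((Over.pullback (AbVar.ext k K)).map j).left :=
    MorphismProperty.baseChange_map (P := @IsClosedImmersion) _ j hjc
  haveI : Mono ((Over.pullback (AbVar.ext k K)).map j) := (Over.forget _).mono_of_mono_map
    (inferInstanceAs (Mono ((Over.pullback (AbVar.ext k K)).map j).left))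
  haveI := H23.BcComp.isMonHom_bc_map (AbVar.ext k K) j
  have hlam : (q ≫ e.inv) ≫ (Over.pullback (AbVar.ext k K)).map j = α := by
    rw [Category.assoc, ← he, Iso.inv_hom_id_assoc, hqi]
  haveI : IsMonHom ((q ≫ e.inv : A ⟶ Red.bc (AbVar.ext k K) C) ≫ (Over.pullback (AbVar.ext k K)).map j) := by
    rw [hlam]; infer_instance
  refine ⟨C, inferInstance, inferInstance, inferInstance, j, q ≫ e.inv, inferInstance,
    isMonHom_of_comp_mono _ ((Over.pullback (AbVar.ext k K)).map j), ?_, hlam⟩
  haveI : IsIso e.inv.left := (Over.forget _).map_isIso e.inv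
  rw [Over.comp_left]
  infer_instance

/-- A monomorphic surjective homomorphism of abelian varieties is an isomorphism. -/
theorem isIso_of_mono_surjective {A B : Over (Spec (CommRingCat.of k))} [IsProper A.hom] [IsProper B.hom]
    [GeometricallyIntegral B.hom] (f : A ⟶ B) [Mono f] [Surjective f.left] : IsIso f := by
  haveI : Mono f.left := inferInstance
  haveI : IsProper f.left := by
    haveI : IsProper (f.left ≫ B.hom) := by rw [Over.w]; infer_instance
    exact IsProper.of_comp f.left B.hom
  haveI : IsClosedImmersion f.left := (IsClosedImmersion.iff_isProper_and_mono f.left).2 ⟨inferInstance, inferInstance⟩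
  haveI : IsIntegral B.left := GeometricallyIntegral.isIntegral_of_subsingleton B.hom
  haveI : IsIso f.left := isIso_of_isClosedImmersion_of_surjective f.left
  haveI : IsIso ((Over.forget _).map f) := inferInstanceAs (IsIso f.left)
  exact isIso_of_reflects_iso f (Over.forget _)

/-- The kernel of a morphism to a group. -/
noncomputable def kerι {A B : Over (Spec (CommRingCat.of k))} [GrpObj B] (f : A ⟶ B) :
    pullback f.left η[B].left ⟶ A.left :=
  pullback.fst f.left η[B].left

theorem exists_lift_kerι {A B T : Over (Spec (CommRingCat.of k))} [GrpObj B] (f : A ⟶ B) (a : T ⟶ A)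
    (ha : a ≫ f = 1) : ∃ t : T.left ⟶ pullback f.left η[B].left, t ≫ kerι f = a.left := by
  have e : a.left ≫ f.left = T.hom ≫ η[B].left := congrArg CommaMorphism.left ha
  exact ⟨pullback.lift a.left T.hom e, pullback.lift_fst _ _ _⟩

theorem comp_eq_one_of_kerι {A B T : Over (Spec (CommRingCat.of k))} [GrpObj B] (f : A ⟶ B) (a : T ⟶ A)
    (t : T.left ⟶ pullback f.left η[B].left) (ht : t ≫ kerι f = a.left) : a ≫ f = 1 := by
  apply Over.OverMorphism.ext
  show a.left ≫ f.left = T.hom ≫ η[B].left
  have e2 : t ≫ pullback.snd f.left η[B].left = T.hom := by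
    rw [← Over.w a, ← ht, ← Over.w f, kerι, Category.assoc, pullback.condition_assoc]
    congr 1
    exact ((congrArg (pullback.snd f.left η[B].left ≫ ·) (Over.w η[B])).trans (Category.comp_id _)).symm
  rw [← ht, kerι, Category.assoc, pullback.condition, ← Category.assoc, e2]

instance {A B : Over (Spec (CommRingCat.of k))} [GrpObj B] (f : A ⟶ B) [IsSeparated B.hom] :
    IsClosedImmersion (kerι f) := by
  haveI : IsClosedImmersion η[B].left := isClosedImmersion_of_comp_eq_id B.hom η[B].left (Over.w η[B])
  exact inferInstanceAs (IsClosedImmersion (pullback.fst f.left η[B].left))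

/-- A homomorphism killed by nothing after a surjective homomorphism with the same kernel is a monomorphism. -/
theorem mono_of_kerι_eq {A B D : Over (Spec (CommRingCat.of k))}
    [GrpObj A] [IsProper A.hom] [GeometricallyIntegral A.hom]
    [GrpObj B] [IsProper B.hom] [GeometricallyIntegral B.hom]
    [GrpObj D] [IsProper D.hom]
    (f : A ⟶ B) [IsMonHom f] [Surjective f.left] (g : B ⟶ D) [IsMonHom g]
    (h : (kerι f).ker ≤ (kerι (f ≫ g)).ker) : Mono g := by
  haveI : Flat f.left := AVIsog3.flat_of_surjective f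
  haveI : IsProper f.left := AVIsog3.isProper_left f
  have hker : ∀ {T : Over (Spec (CommRingCat.of k))} (x : T ⟶ B), x ≫ g = 1 → x = 1 := by
    intro T x hx
    let p : pullback x.left f.left ⟶ T.left := pullback.fst x.left f.left
    let T' : Over (Spec (CommRingCat.of k)) := Over.mk (p ≫ T.hom)
    let pO : T' ⟶ T := Over.homMk p rfl
    let a : T' ⟶ A := Over.homMk (pullback.snd x.left f.left) (by
      show pullback.snd x.left f.left ≫ A.hom = p ≫ T.hom
      rw [← Over.w f, ← pullback.condition_assoc, Over.w x])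
    have ha : a ≫ f = pO ≫ x := Over.OverMorphism.ext pullback.condition.symm
    have h1 : a ≫ f ≫ g = 1 := by rw [reassoc_of% ha, hx, MonObj.comp_one]
    obtain ⟨t, ht⟩ := exists_lift_kerι (f ≫ g) a h1
    let t' := IsClosedImmersion.lift (kerι f) (kerι (f ≫ g)) h
    have ht' : t' ≫ kerι f = kerι (f ≫ g) := IsClosedImmersion.lift_fac _ _ h
    have h2 : a ≫ f = 1 := comp_eq_one_of_kerι f a (t ≫ t') (by rw [Category.assoc, ht', ht])
    haveI : Flat p := inferInstanceAs (Flat (pullback.fst x.left f.left))
    haveI : Surjective p := inferInstanceAs (Surjective (pullback.fst x.left f.left))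
    haveI : QuasiCompact p := inferInstanceAs (QuasiCompact (pullback.fst x.left f.left))
    apply Over.OverMorphism.ext
    rw [← cancel_epi p]
    have h3 : pO ≫ x = pO ≫ 1 := by rw [← ha, h2, MonObj.comp_one]
    exact congrArg CommaMorphism.left h3
  refine ⟨fun {T} a b hab => ?_⟩
  rw [← mul_inv_eq_one]
  refine hker _ ?_
  rw [MonObj.mul_comp, GrpObj.inv_comp, hab, mul_inv_cancel]

theorem exists_isChowImage (hK : AbVar.IsPrimaryExt k K)
    (A : Over (Spec (CommRingCat.of K))) [GrpObj A] [IsProper A.hom] [GeometricallyIntegral A.hom] :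
    ∃ (A₀ : Over (Spec (CommRingCat.of k))) (_ : GrpObj A₀),
      IsProper A₀.hom ∧ GeometricallyIntegral A₀.hom ∧
        ∃ lam : A ⟶ Red.bc (AbVar.ext k K) A₀, AbVar.IsChowImage k K A A₀ lam := by
  haveI : IsLocallyNoetherian A.left := LocallyOfFiniteType.isLocallyNoetherian A.hom
  haveI : CompactSpace A.left := QuasiCompact.compactSpace_of_compactSpace A.hom
  haveI : IsNoetherian A.left := {}
  haveI := H23.FinCondSch.wellFoundedGT (X := A.left)
  let h := AbVar.ext k K
  let P : A.left.IdealSheafData → Prop := fun I =>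
    ∃ (C : Over (Spec (CommRingCat.of k))) (_ : GrpObj C) (_ : IsProper C.hom) (_ : GeometricallyIntegral C.hom)
      (lam : A ⟶ Red.bc h C), IsMonHom lam ∧ Surjective lam.left ∧ (kerι lam).ker = I
  -- the trivial candidate
  have hne : ∃ I, P I := by
    let O : Over (Spec (CommRingCat.of k)) := 𝟙_ _
    haveI : IsProper O.hom := inferInstanceAs (IsProper (𝟙 (Spec (CommRingCat.of k))))
    haveI : GeometricallyIntegral O.hom := by
      show GeometricallyIntegral (𝟙 (Spec (CommRingCat.of k)))
      exact H23.MaxAbelian.geometricallyIntegral_of_pullback _ fun L _ x =>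
        isIntegral_of_isOpenImmersion (pullback.snd (𝟙 _) x)
    haveI := isProper_bc h O
    haveI : IsMonHom (1 : A ⟶ Red.bc h O) := GrpSchLib.RigidHom.isMonHom_of_one _ (MonObj.comp_one _)
    obtain ⟨C, i1, i2, i3, _, lam, _, hl, hs, _⟩ := exists_image_bc hK A O (1 : A ⟶ Red.bc h O)
    exact ⟨_, C, i1, i2, i3, lam, hl, hs, rfl⟩
  obtain ⟨I, ⟨A₀, _, _, _, lam, hlam, hs, hI⟩, hmax⟩ := wellFounded_gt.has_min {I | P I} hne
  refine ⟨A₀, inferInstance, inferInstance, inferInstance, lam, hlam, hs, fun B _ _ _ α _ => ?_⟩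
  haveI := isProper_bc h A₀
  haveI := geometricallyIntegral_bc h A₀
  haveI := isProper_bc h B
  haveI := geometricallyIntegral_bc h B
  -- pair the two maps
  let D : Over (Spec (CommRingCat.of k)) := A₀ ⊗ B
  haveI : GeometricallyIntegral D.hom := H23.MaxAbelian.geometricallyIntegral_tensor A₀ B
  haveI : IsProper D.hom := by
    show IsProper (A₀ ⊗ B).hom
    rw [show (A₀ ⊗ B).hom = pullback.fst A₀.hom B.hom ≫ A₀.hom from rfl]
    infer_instance
  haveI := isProper_bc h D
  let gam : A ⟶ Red.bc h D := lift lam α ≫ Functor.LaxMonoidal.μ (Over.pullback h) A₀ B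
  have hgam₁ : gam ≫ (Over.pullback h).map (fst A₀ B) = lam := by
    simp only [gam, Category.assoc, Functor.Monoidal.μ_fst]
    exact lift_fst lam α
  have hgam₂ : gam ≫ (Over.pullback h).map (snd A₀ B) = α := by
    simp only [gam, Category.assoc, Functor.Monoidal.μ_snd]
    exact lift_snd lam α
  haveI : IsMonHom gam := by
    refine GrpSchLib.RigidHom.isMonHom_of_one gam ?_
    have e1 : η[A] ≫ lift lam α = lift (1 : 𝟙_ _ ⟶ Red.bc h A₀) (1 : 𝟙_ _ ⟶ Red.bc h B) := by
      rw [comp_lift, IsMonHom.one_hom lam, IsMonHom.one_hom α, AVFac.eta_eq_one, AVFac.eta_eq_one]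
    have e2 : η[Red.bc h D] = lift (1 : 𝟙_ _ ⟶ Red.bc h A₀) (1 : 𝟙_ _ ⟶ Red.bc h B) ≫
        Functor.LaxMonoidal.μ (Over.pullback h) A₀ B := by
      rw [← cancel_mono (Functor.OplaxMonoidal.δ (Over.pullback h) A₀ B), Category.assoc,
        Functor.Monoidal.μ_δ, Category.comp_id]
      haveI : IsMonHom (fst A₀ B) := GrpSchLib.RigidHom.isMonHom_of_one _ (by simp [AVFac.eta_eq_one])
      haveI : IsMonHom (snd A₀ B) := GrpSchLib.RigidHom.isMonHom_of_one _ (by simp [AVFac.eta_eq_one])
      haveI := H23.BcComp.isMonHom_bc_map h (fst A₀ B)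
      haveI := H23.BcComp.isMonHom_bc_map h (snd A₀ B)
      apply CartesianMonoidalCategory.hom_ext
      · rw [Category.assoc, Functor.OplaxMonoidal.δ_fst, lift_fst]
        exact (IsMonHom.one_hom ((Over.pullback h).map (fst A₀ B))).trans (AVFac.eta_eq_one _)
      · rw [Category.assoc, Functor.OplaxMonoidal.δ_snd, lift_snd]
        exact (IsMonHom.one_hom ((Over.pullback h).map (snd A₀ B))).trans (AVFac.eta_eq_one _)
    show η[A] ≫ lift lam α ≫ _ = 1
    rw [reassoc_of% e1, ← e2, AVFac.eta_eq_one]
  obtain ⟨C, _, _, _, j, lam', hj, hlam', hs', hfac⟩ := exists_image_bc hK A D gam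
  haveI := isProper_bc h C
  haveI := geometricallyIntegral_bc h C
  let g : C ⟶ A₀ := j ≫ fst A₀ B
  let gK : Red.bc h C ⟶ Red.bc h A₀ := (Over.pullback h).map g
  have hg : lam' ≫ gK = lam := by
    show lam' ≫ (Over.pullback h).map (j ≫ fst A₀ B) = lam
    rw [Functor.map_comp, reassoc_of% hfac, hgam₁]
  haveI : IsMonHom g := by
    haveI : IsMonHom (fst A₀ B) := GrpSchLib.RigidHom.isMonHom_of_one _ (by simp [AVFac.eta_eq_one])
    infer_instance
  haveI : IsMonHom gK := H23.BcComp.isMonHom_bc_map h g
  have hle : I ≤ (kerι lam').ker := by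
    rw [← hI]
    obtain ⟨t, ht⟩ : ∃ t, t ≫ kerι lam = kerι lam' := by
      let T : Over (Spec (CommRingCat.of K)) := Over.mk (kerι lam' ≫ A.hom)
      let a : T ⟶ A := Over.homMk (kerι lam') rfl
      have h1 : a ≫ lam' = 1 := comp_eq_one_of_kerι lam' a (𝟙 _) (Category.id_comp _)
      exact exists_lift_kerι lam a (by rw [← hg, reassoc_of% h1, MonObj.one_comp])
    rw [← ht]
    exact t.le_ker_comp _
  have heq : (kerι lam').ker = I :=
    (eq_of_le_of_not_lt hle (hmax _ ⟨C, _, inferInstance, inferInstance, lam', hlam', hs', rfl⟩)).symm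
  haveI : Mono gK := mono_of_kerι_eq lam' gK (by rw [hg, hI, heq])
  haveI : Surjective gK.left := by
    haveI : Surjective (lam'.left ≫ gK.left) := by rw [← Over.comp_left, hg]; exact hs
    exact Surjective.of_comp lam'.left gK.left
  haveI := isIso_of_mono_surjective gK
  haveI : IsMonHom (inv gK) := by
    haveI : IsMonHom (inv gK ≫ gK) := by rw [IsIso.inv_hom_id]; infer_instance
    exact isMonHom_of_comp_mono _ gK
  obtain ⟨g', hg', hg'e⟩ := exists_hom_map_eq hK A₀ C (inv gK)
  haveI : IsMonHom (snd A₀ B) := GrpSchLib.RigidHom.isMonHom_of_one _ (by simp [AVFac.eta_eq_one])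
  refine ⟨g' ≫ j ≫ snd A₀ B, inferInstance, ?_⟩
  rw [Functor.map_comp, Functor.map_comp, hg'e, ← hg, Category.assoc, IsIso.hom_inv_id_assoc,
    reassoc_of% hfac, hgam₂]

end Groth.Agent.AVChow
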