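import Groth.Agent.AVChow.Image
import Groth.Agent.H23.EquidimFibres
import Groth.Agent.GrpSchLib.IdentityComp

/-!
The reduced subscheme of a geometrically irreducible closed subgroup of an abelian variety is an abelian subvariety.
-/

set_option linter.style.haveILetI false
set_option backward.isDefEq.respectTransparency false
set_option backward.isDefEq.respectTransparency.types false

universe u

open CategoryTheory CategoryTheory.Limits MonoidalCategory CartesianMonoidalCategory MonObj GrpObj AlgebraicGeometry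

namespace Groth.Agent.AVChow

variable {k : Type u} [Field k]

/-- Images of torsion points under a homomorphism to a base change lie over torsion points. -/
theorem fst_mem_torsSet {K : Type u} [Field K] (h : Spec (CommRingCat.of K) ⟶ Spec (CommRingCat.of k))
    (A : Over (Spec (CommRingCat.of k))) [GrpObj A]
    {B' : Over (Spec (CommRingCat.of K))} [GrpObj B'] (i' : B' ⟶ Red.bc h A) [IsMonHom i']
    {l : ℕ} {w : B'.left} (hw : w ∈ torsSet B' l) :
    pullback.fst A.hom h (i'.left w) ∈ torsSet A l := by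
  obtain ⟨n, t, ht⟩ := hw
  refine ⟨n, h t, ?_⟩
  let q : pullback A.hom h ⟶ A.left := pullback.fst A.hom h
  have hpow : (Over.pullback h).map (𝟙 A ^ (l ^ n)) =
      (𝟙 (Red.bc h A) ^ (l ^ n) : Red.bc h A ⟶ Red.bc h A) := by
    have := map_pow ((Over.pullback h).homMonoidHom (X := A) (M := A)) (𝟙 A) (l ^ n)
    simpa using this
  have e1 : i'.left ≫ q ≫ (𝟙 A ^ (l ^ n) : A ⟶ A).left =
      (𝟙 B' ^ (l ^ n) : B' ⟶ B').left ≫ i'.left ≫ q := by
    have e2 : ((Over.pullback h).map (𝟙 A ^ (l ^ n))).left ≫ q = q ≫ (𝟙 A ^ (l ^ n) : A ⟶ A).left :=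
      pullback.lift_fst _ _ _
    rw [← e2, hpow, ← Category.assoc, ← Category.assoc, ← Over.comp_left, ← Over.comp_left,
      MonObj.comp_pow, Category.comp_id, MonObj.pow_comp, Category.id_comp]
  have e3 : η[B'].left ≫ i'.left ≫ q = h ≫ η[A].left := by
    rw [← Category.assoc, ← Over.comp_left, IsMonHom.one_hom i']
    exact unit_fst h A
  calc η[A].left (h t) = (h ≫ η[A].left) t := rfl
    _ = (i'.left ≫ q) (η[B'].left t) := (congr($e3 t)).symm
    _ = (i'.left ≫ q) ((𝟙 B' ^ (l ^ n) : B' ⟶ B').left w) := by rw [ht]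
    _ = (𝟙 A ^ (l ^ n) : A ⟶ A).left (q (i'.left w)) := (congr($e1 w)).symm

/-- A geometrically irreducible closed subgroup of an abelian variety carries an abelian subvariety on the same
underlying set. -/
theorem exists_abelian_of_subgroup (A : Over (Spec (CommRingCat.of k))) [GrpObj A] [IsProper A.hom]
    [GeometricallyIntegral A.hom] (Y : Over (Spec (CommRingCat.of k))) [GrpObj Y] [GeometricallyIrreducible Y.hom]
    (i : Y ⟶ A) [IsMonHom i] [IsClosedImmersion i.left] :
    ∃ (M : Over (Spec (CommRingCat.of k))) (_ : GrpObj M) (m : M ⟶ Y), IsProper M.hom ∧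
      GeometricallyIntegral M.hom ∧ IsReduced M.left ∧ IsMonHom m ∧ IsClosedImmersion m.left ∧
        Surjective m.left := by
  let Ω := AlgebraicClosure k
  let σ := AbVar.ext k Ω
  let C := Red.bc σ A
  haveI : IsProper C.hom := isProper_bc σ A
  haveI : GeometricallyIntegral C.hom := geometricallyIntegral_bc σ A
  let YΩ := Red.bc σ Y
  let iΩ : YΩ ⟶ C := (Over.pullback σ).map i
  haveI : IsMonHom iΩ := H23.BcComp.isMonHom_bc_map σ i
  haveI : IsClosedImmersion iΩ.left := MorphismProperty.baseChange_map (P := @IsClosedImmersion) σ i inferInstance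
  haveI : IrreducibleSpace YΩ.left :=
    GeometricallyIrreducible.geometrically_irreducibleSpace (f := Y.hom) σ _ _ (IsPullback.of_hasPullback _ _)
  obtain ⟨V, em, hem, hr, hVp, hVg, hVi⟩ := H23.EquidimFibres.exists_integral_sub (X := C)
    iΩ.left.isClosedEmbedding.isClosed_range (by
      rw [← Set.image_univ]
      exact (IrreducibleSpace.isIrreducible_univ _).image _ iΩ.left.continuous.continuousOn)
  obtain ⟨v₀, hv₀⟩ := H23.RedSub.exists_lift_closed em.left iΩ.left hr.le
  let v : V ⟶ YΩ := Over.homMk v₀ (by rw [← Over.w iΩ, reassoc_of% hv₀, Over.w em])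
  have hv : v ≫ iΩ = em := Over.OverMorphism.ext hv₀
  have hsub : ∀ {T : Over (Spec (CommRingCat.of Ω))} (f : T ⟶ C) (g : T ⟶ YΩ), g ≫ iΩ = f →
      Set.range f.left ⊆ Set.range em.left := by
    rintro T f g rfl _ ⟨y, rfl⟩
    rw [hr]
    exact ⟨g.left y, rfl⟩
  obtain ⟨N, _, jN, _, hNc, hNp, hNg, hNr⟩ := H23.MaxAbelian.exists_image' em
    (hsub η[C] η[YΩ] (IsMonHom.one_hom iΩ))
    (hsub _ ((fst V V ≫ v) * (snd V V ≫ v)) (by rw [MonObj.mul_comp, Category.assoc, Category.assoc, hv]))
    (hsub _ v⁻¹ (by rw [GrpObj.inv_comp, hv]))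
  obtain ⟨l, hlp, hl⟩ := exists_prime_ne_zero k
  haveI : Fact l.Prime := ⟨hlp⟩
  have hlΩ : (l : Ω) ≠ 0 := fun h0 => hl ((algebraMap k Ω).injective (by rw [map_natCast, map_zero, h0]))
  let q : C.left ⟶ A.left := pullback.fst A.hom σ
  let SS : Set A.left := q '' (jN.left '' torsSet N l)
  have hiΩ : iΩ.left ≫ q = pullback.fst Y.hom σ ≫ i.left := pullback.lift_fst _ _ _
  have hdense : Set.range i.left ⊆ closure SS := by
    rintro _ ⟨y, rfl⟩
    haveI : Surjective (pullback.fst Y.hom σ) := inferInstance
    obtain ⟨y', rfl⟩ := (pullback.fst Y.hom σ).surjective y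
    rw [show i.left (pullback.fst Y.hom σ y') = q (iΩ.left y') from (congr($hiΩ y')).symm]
    have h1 : iΩ.left y' ∈ closure (jN.left '' torsSet N l) := by
      rw [hNc.isClosedEmbedding.closure_image_eq, (dense_torsSet N l hlΩ).closure_eq, Set.image_univ, hNr, hr]
      exact ⟨y', rfl⟩
    exact image_closure_subset_closure_image q.continuous ⟨_, h1, rfl⟩
  have hSS : ∀ x ∈ SS, x ∈ Set.range i.left ∧ x ∈ torsSet A l := by
    rintro _ ⟨_, ⟨w, hw, rfl⟩, rfl⟩
    obtain ⟨y', hy'⟩ : jN.left w ∈ Set.range iΩ.left := by rw [← hr, ← hNr]; exact ⟨w, rfl⟩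
    exact ⟨⟨pullback.fst Y.hom σ y', by rw [← hy']; exact (congr($hiΩ y')).symm⟩, fst_mem_torsSet σ A jN hw⟩
  -- the reduced subscheme
  let Z : TopologicalSpace.Closeds Y.left := ⊤
  let m₀ := (Scheme.IdealSheafData.vanishingIdeal Z).subschemeι
  haveI := H23.RedSub.isReduced_vanishingIdeal Z
  have hm₀ : Set.range m₀ = Set.univ := H23.RedSub.range_vanishingIdeal Z
  let M : Over (Spec (CommRingCat.of k)) := Over.mk (m₀ ≫ Y.hom)
  let m : M ⟶ Y := Over.homMk m₀ rfl
  haveI : IsClosedImmersion m.left := inferInstanceAs (IsClosedImmersion m₀)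
  haveI : Surjective m.left := ⟨Set.range_eq_univ.1 hm₀⟩
  haveI : IsReduced M.left := inferInstanceAs (IsReduced (Scheme.IdealSheafData.vanishingIdeal Z).subscheme)
  haveI : IsProper Y.hom := by rw [← Over.w i]; infer_instance
  haveI : IsProper M.hom := inferInstanceAs (IsProper (m₀ ≫ Y.hom))
  let j : M ⟶ A := m ≫ i
  haveI : IsClosedImmersion j.left := inferInstanceAs (IsClosedImmersion (m.left ≫ i.left))
  have hrj : Set.range j.left = Set.range i.left := m.left.surjective.range_comp i.left
  haveI : GeometricallyReduced M.hom := by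
    refine geometricallyReduced_of_dense M.hom (j.left ⁻¹' SS) ?_ fun s hs => ?_
    · rw [dense_iff_closure_eq, j.left.isEmbedding.closure_eq_preimage_closure_image,
        Set.image_preimage_eq_of_subset (fun x hx => hrj.ge (hSS x hx).1), Set.eq_univ_iff_forall]
      exact fun b => hdense (hrj.le ⟨b, rfl⟩)
    · obtain ⟨-, h1, h2⟩ := torsSet_point hl (hSS _ hs).2
      haveI := FComplLib.isIso_residueFieldMap j.left s
      have e : Spec.map (j.left.residueFieldMap s) ≫ A.left.fromSpecResidueField (j.left s) ≫ A.hom =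
          M.left.fromSpecResidueField s ≫ M.hom := by
        rw [Scheme.Hom.SpecMap_residueFieldMap_fromSpecResidueField_assoc, Over.w j]
      constructor
      · rw [← e]; exact (MorphismProperty.cancel_left_of_respectsIso @FormallyUnramified _ _).2 h1
      · rw [← e]; exact (MorphismProperty.cancel_left_of_respectsIso @LocallyOfFiniteType _ _).2 h2
  haveI : Mono m := (Over.forget _).mono_of_mono_map (inferInstanceAs (Mono m.left))
  have hfac : ∀ {U : Over (Spec (CommRingCat.of k))} (f : U ⟶ Y), IsReduced U.left → ∃ f₀ : U ⟶ M, f₀ ≫ m = f := by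
    intro U f _
    obtain ⟨f₀, hf₀⟩ := H23.RedSub.exists_lift_closed f.left m.left (by rw [m.left.surjective.range_eq]; simp)
    exact ⟨Over.homMk f₀ (by rw [← Over.w m, reassoc_of% hf₀, Over.w f]), Over.OverMorphism.ext hf₀⟩
  haveI : IsLocallyNoetherian M.left := LocallyOfFiniteType.isLocallyNoetherian M.hom
  have hMM : IsReduced (M ⊗ M).left := by
    haveI : Flat M.hom := inferInstance
    exact inferInstanceAs (IsReduced (pullback M.hom M.hom))
  haveI : IsReduced (𝟙_ (Over (Spec (CommRingCat.of k)))).left :=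
    inferInstanceAs (IsReduced (Spec (CommRingCat.of k)))
  obtain ⟨u₀, hu₀⟩ := hfac η[Y] inferInstance
  obtain ⟨p₀, hp₀⟩ := hfac ((fst M M ≫ m) * (snd M M ≫ m)) hMM
  obtain ⟨n₀, hn₀⟩ := hfac m⁻¹ inferInstance
  let inst : GrpObj M := GrpSchLib.grpObjOfFactor m u₀ hu₀ p₀ hp₀ n₀ hn₀
  have hm : IsMonHom m := ⟨hu₀, by
    show p₀ ≫ m = _
    rw [hp₀]
    simp [Hom.mul_def]⟩
  haveI : IrreducibleSpace Y.left := GeometricallyIrreducible.irreducibleSpace_of_subsingleton Y.hom
  haveI : ConnectedSpace M.left := by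
    haveI : IrreducibleSpace M.left :=
      ((m.left.isClosedEmbedding.isEmbedding.toHomeomorphOfSurjective m.left.surjective).irreducibleSpace_iff).2 inferInstance
    infer_instance
  haveI := H23.MaxAbelian.geometricallyIntegral_of_connected M
  exact ⟨M, inst, m, inferInstance, inferInstance, inferInstance, hm, inferInstance, inferInstance⟩

/-- The abelian variety inside an intersection of two abelian subvarieties catches every map from a connected
reduced scheme through the origin. -/
theorem exists_abelian_sub (A : Over (Spec (CommRingCat.of k))) [GrpObj A] [IsProper A.hom]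
    [GeometricallyIntegral A.hom] (G : Over (Spec (CommRingCat.of k))) [GrpObj G]
    (i : G ⟶ A) [IsMonHom i] [IsClosedImmersion i.left] :
    ∃ (M : Over (Spec (CommRingCat.of k))) (_ : GrpObj M) (m : M ⟶ G), IsProper M.hom ∧
      GeometricallyIntegral M.hom ∧ IsMonHom m ∧ IsClosedImmersion m.left ∧
        IsClopen (Set.range m.left) := by
  obtain ⟨G₀, _, incl, _, hc, hfl, hr, _, _⟩ := GrpSchLib.exists_identityComponent (G := G)
  haveI : IsProper G.hom := by rw [← Over.w i]; infer_instance
  haveI : IsClosedImmersion (incl ≫ i).left := inferInstanceAs (IsClosedImmersion (incl.left ≫ i.left))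
  obtain ⟨M, _, m, hMp, hMg, _, hm, hmc, hms⟩ := exists_abelian_of_subgroup A G₀ (incl ≫ i)
  haveI : IsLocallyNoetherian G.left := LocallyOfFiniteType.isLocallyNoetherian G.hom
  haveI : CompactSpace G.left := QuasiCompact.compactSpace_of_compactSpace G.hom
  haveI : IsNoetherian G.left := {}
  haveI : LocallyOfFinitePresentation incl.left := by
    haveI : IsLocallyNoetherian G₀.left := LocallyOfFiniteType.isLocallyNoetherian incl.left
    infer_instance
  have ho : IsOpen (Set.range incl.left) := incl.left.isOpenMap.isOpen_range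
  refine ⟨M, inferInstance, m ≫ incl, hMp, hMg, inferInstance,
    inferInstanceAs (IsClosedImmersion (m.left ≫ incl.left)), ?_⟩
  rw [show Set.range (m ≫ incl).left = Set.range incl.left from m.left.surjective.range_comp incl.left, hr]
  exact ⟨isClosed_connectedComponent, hr ▸ ho⟩

end Groth.Agent.AVChow
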