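import Groth.Agent.AVChow.Descent
import Groth.Agent.AVChow.GeomRedDense
import Groth.Agent.AVIdx.TateInj
import Groth.Agent.AVFac.Tate
import Groth.Agent.H23.MaxAbelian
import Groth.Agent.FComplLib.SmoothLevel

/-!
Abelian subvarieties descend along primary field extensions.
-/

set_option linter.style.haveILetI false
set_option backward.isDefEq.respectTransparency false
set_option backward.isDefEq.respectTransparency.types false

universe u

open CategoryTheory CategoryTheory.Limits MonoidalCategory CartesianMonoidalCategory MonObj GrpObj AlgebraicGeometry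

namespace Groth.Agent.AVChow

/-- The points killed by a power of `l`. -/
def torsSet {k : Type u} [Field k] (A : Over (Spec (CommRingCat.of k))) [GrpObj A] (l : ℕ) : Set A.left :=
  {x | ∃ n, (𝟙 A ^ (l ^ n) : A ⟶ A).left x ∈ Set.range η[A].left}

theorem exists_prime_ne_zero (k : Type u) [Field k] : ∃ l : ℕ, l.Prime ∧ (l : k) ≠ 0 := by
  by_cases h : ((2 : ℕ) : k) = 0
  · refine ⟨3, Nat.prime_three, fun h3 => ?_⟩
    have : ((3 : ℕ) : k) = ((2 : ℕ) : k) + 1 := by norm_num
    rw [h3, h, _root_.zero_add] at this
    exact one_ne_zero this.symm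
  · exact ⟨2, Nat.prime_two, h⟩

variable {k : Type u} [Field k]

/-- The torsion points of order a power of an invertible prime are dense. -/
theorem dense_torsSet (A : Over (Spec (CommRingCat.of k))) [GrpObj A] [IsProper A.hom]
    [GeometricallyIntegral A.hom] (l : ℕ) [Fact l.Prime] (hl : (l : k) ≠ 0) : Dense (torsSet A l) := by
  let Ω := AlgebraicClosure k
  let σ := AbVar.ext k Ω
  let C := Red.bc σ A
  haveI : IsProper C.hom := inferInstanceAs (IsProper (pullback.snd A.hom σ))
  haveI : GeometricallyIntegral C.hom := inferInstanceAs (GeometricallyIntegral (pullback.snd A.hom σ))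
  haveI : IsCommMonObj C := isCommMonObj_of_isProper_of_geometricallyIntegral C
  have hlΩ : (l : Ω) ≠ 0 := fun h0 => hl ((algebraMap k Ω).injective (by rw [map_natCast, map_zero, h0]))
  let π : C.left ⟶ A.left := pullback.fst A.hom σ
  haveI : Surjective π := inferInstanceAs (Surjective (pullback.fst A.hom σ))
  refine (π.surjective.denseRange.dense_image π.continuous
    (AVIdx.dense_iUnion_torsion C l hlΩ)).mono ?_
  rintro _ ⟨_, ⟨a, ⟨n, hn⟩, rfl⟩, rfl⟩
  refine ⟨n, σ (IsLocalRing.closedPoint Ω), ?_⟩
  have hpow : (Over.pullback σ).map (𝟙 A ^ (l ^ n)) = (𝟙 C ^ (l ^ n) : C ⟶ C) := by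
    have := map_pow ((Over.pullback σ).homMonoidHom (X := A) (M := A)) (𝟙 A) (l ^ n)
    simpa using this
  have h1 : a ≫ (Over.pullback σ).map (𝟙 A ^ (l ^ n)) = η[C] := by
    rw [hpow, MonObj.comp_pow, Category.comp_id, hn, AVFac.eta_eq_one]
  have h2 : ((Over.pullback σ).map (𝟙 A ^ (l ^ n))).left ≫ π = π ≫ (𝟙 A ^ (l ^ n) : A ⟶ A).left :=
    pullback.lift_fst _ _ _
  have h3 : a.left ≫ π ≫ (𝟙 A ^ (l ^ n) : A ⟶ A).left = σ ≫ η[A].left := by
    rw [← h2, ← Category.assoc, ← Over.comp_left, h1]
    exact unit_fst σ A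
  exact (congr($h3 (IsLocalRing.closedPoint Ω))).symm

/-- A torsion point of order invertible in the field is closed with a separable residue field. -/
theorem torsSet_point {A : Over (Spec (CommRingCat.of k))} [GrpObj A] [IsProper A.hom]
    [GeometricallyIntegral A.hom] {l : ℕ} (hl : (l : k) ≠ 0) {x : A.left} (hx : x ∈ torsSet A l) :
    IsClosed {x} ∧ FormallyUnramified (A.left.fromSpecResidueField x ≫ A.hom) ∧
      LocallyOfFiniteType (A.left.fromSpecResidueField x ≫ A.hom) := by
  obtain ⟨n, t, ht⟩ := hx
  let g : A ⟶ A := 𝟙 A ^ (l ^ n)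
  have hm : ((l ^ n : ℕ) : k) ≠ 0 := by rw [Nat.cast_pow]; exact pow_ne_zero _ hl
  haveI : Etale g.left := AVFac.etale_pow_of_ne_zero A hm
  haveI : IsFinite g.left := AVMulN.isFinite_pow (A := A) (l ^ n)
    (Nat.one_le_iff_ne_zero.2 fun h => hm (by rw [h, Nat.cast_zero]))
  haveI : IsClosedImmersion η[A].left :=
    isClosedImmersion_of_comp_eq_id A.hom η[A].left (Over.w η[A])
  let c : pullback g.left η[A].left ⟶ A.left := pullback.fst g.left η[A].left
  let v : pullback g.left η[A].left ⟶ Spec (CommRingCat.of k) := pullback.snd g.left η[A].left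
  have hv : c ≫ A.hom = v := by
    rw [← Over.w g, ← Category.assoc]
    show (c ≫ g.left) ≫ A.hom = v
    rw [pullback.condition, Category.assoc]
    exact (congrArg (v ≫ ·) (Over.w η[A])).trans (Category.comp_id v)
  obtain ⟨z, hz, -⟩ := Scheme.Pullback.exists_preimage_pullback x t ht.symm
  subst hz
  haveI : IsFinite v := inferInstanceAs (IsFinite (pullback.snd g.left η[A].left))
  haveI : Etale v := inferInstanceAs (Etale (pullback.snd g.left η[A].left))
  haveI : IsLocallyArtinian (pullback g.left η[A].left) := IsLocallyArtinian.of_locallyQuasiFinite v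
  have hzc : IsClosed ({z} : Set ↥(pullback g.left η[A].left)) := isClosed_discrete _
  haveI : IsClosedImmersion c := inferInstanceAs (IsClosedImmersion (pullback.fst g.left η[A].left))
  have hxc : IsClosed ({c z} : Set A.left) := by
    rw [← Set.image_singleton]
    exact c.isClosedEmbedding.isClosedMap _ hzc
  haveI := isClosed_singleton_iff_isClosedImmersion.1 hxc
  refine ⟨hxc, ?_, inferInstance⟩
  haveI := FComplLib.isIso_residueFieldMap c z
  have e : Spec.map (c.residueFieldMap z) ≫ A.left.fromSpecResidueField (c z) ≫ A.hom =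
      (pullback g.left η[A].left).fromSpecResidueField z ≫ v := by
    rw [Scheme.Hom.SpecMap_residueFieldMap_fromSpecResidueField_assoc, hv]
  haveI : IsIso (pullback.diagonal ((pullback g.left η[A].left).fromSpecResidueField z)) := inferInstance
  haveI : FormallyUnramified v := inferInstance
  refine (MorphismProperty.cancel_left_of_respectsIso @FormallyUnramified (Spec.map (c.residueFieldMap z)) _).1 ?_
  rw [e]
  exact MorphismProperty.comp_mem _ _ _ inferInstance inferInstance

variable {K : Type u} [Field K] [Algebra k K]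

/-- The fibre of a base change along a primary extension over a closed point is one point. -/
theorem subsingleton_fibre (hK : AbVar.IsPrimaryExt k K) (A : Over (Spec (CommRingCat.of k)))
    [LocallyOfFiniteType A.hom] {x : A.left} (hx : IsClosed {x})
    {w w' : ↥(pullback A.hom (AbVar.ext k K))} (hw : pullback.fst A.hom (AbVar.ext k K) w = x)
    (hw' : pullback.fst A.hom (AbVar.ext k K) w' = x) : w = w' := by
  let h := AbVar.ext k K
  haveI := isClosed_singleton_iff_isClosedImmersion.1 hx
  let y := A.left.fromSpecResidueField x ≫ A.hom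
  haveI : IsFinite y := (isFinite_iff_locallyOfFiniteType_of_jacobsonSpace).2 inferInstance
  haveI : IrreducibleSpace ↥(pullback h y) :=
    (GeomConn5.geometricallyIrreducible_spec_field k K hK).geometrically_irreducibleSpace _ _ _
      (IsPullback.of_hasPullback h y)
  haveI : IsLocallyArtinian (Spec (CommRingCat.of K)) := inferInstance
  haveI : IsLocallyArtinian (pullback h y) := IsLocallyArtinian.of_locallyQuasiFinite (pullback.fst h y)
  have hsub : ∀ p p' : ↥(pullback h y), p = p' := fun p p' => by
    obtain ⟨z, hz, hz'⟩ := nonempty_preirreducible_inter (isOpen_discrete {p}) (isOpen_discrete {p'})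
      (Set.singleton_nonempty p) (Set.singleton_nonempty p')
    exact hz.symm.trans hz'
  let m : pullback h y ⟶ pullback A.hom h :=
    pullback.lift (pullback.snd h y ≫ A.left.fromSpecResidueField x) (pullback.fst h y)
      (by rw [Category.assoc]; exact pullback.condition.symm)
  have hsq : IsPullback m (pullback.snd h y) (pullback.fst A.hom h) (A.left.fromSpecResidueField x) := by
    refine IsPullback.of_right (h₁₂ := pullback.snd A.hom h) (h₂₂ := A.hom) (v₁₃ := h) ?_
      (pullback.lift_fst _ _ _) (IsPullback.of_hasPullback A.hom h).flip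
    rw [pullback.lift_snd]
    exact IsPullback.of_hasPullback h y
  obtain ⟨p, hp, -⟩ := Scheme.exists_preimage_of_isPullback hsq w (IsLocalRing.closedPoint _)
    (by rw [hw, Scheme.fromSpecResidueField_apply])
  obtain ⟨p', hp', -⟩ := Scheme.exists_preimage_of_isPullback hsq w' (IsLocalRing.closedPoint _)
    (by rw [hw', Scheme.fromSpecResidueField_apply])
  rw [← hp, ← hp', hsub p p']

/-- An abelian subvariety of the base change along a primary extension is defined over the small field. -/
theorem exists_subvariety_descent (hK : AbVar.IsPrimaryExt k K)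
    (A : Over (Spec (CommRingCat.of k))) [GrpObj A] [IsProper A.hom] [GeometricallyIntegral A.hom]
    (B' : Over (Spec (CommRingCat.of K))) [GrpObj B'] [IsProper B'.hom] [GeometricallyIntegral B'.hom]
    (i' : B' ⟶ Red.bc (AbVar.ext k K) A) [IsMonHom i'] [IsClosedImmersion i'.left] :
    ∃ (B : Over (Spec (CommRingCat.of k))) (_ : GrpObj B) (i : B ⟶ A), IsProper B.hom ∧ GeometricallyIntegral B.hom ∧
      IsMonHom i ∧ IsClosedImmersion i.left ∧
      ∃ e : Red.bc (AbVar.ext k K) B ≅ B', e.hom ≫ i' = (Over.pullback (AbVar.ext k K)).map i := by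
  let h := AbVar.ext k K
  let q : pullback A.hom h ⟶ A.left := pullback.fst A.hom h
  let W : Set ↥(pullback A.hom h) := Set.range i'.left
  obtain ⟨l, hlp, hl⟩ := exists_prime_ne_zero k
  haveI : Fact l.Prime := ⟨hlp⟩
  have hlK : (l : K) ≠ 0 := fun h0 => hl ((algebraMap k K).injective (by rw [map_natCast, map_zero, h0]))
  -- torsion of the subvariety
  let T : Set ↥(pullback A.hom h) := i'.left '' torsSet B' l
  have hT : closure T = W := by
    show closure (i'.left '' torsSet B' l) = Set.range i'.left
    rw [i'.left.isClosedEmbedding.closure_image_eq, (dense_torsSet B' l hlK).closure_eq, Set.image_univ]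
  let SS : Set A.left := q '' T
  have hSS : ∀ x ∈ SS, x ∈ torsSet A l := by
    rintro _ ⟨_, ⟨w, ⟨n, t, ht⟩, rfl⟩, rfl⟩
    refine ⟨n, h t, ?_⟩
    have hpow : (Over.pullback h).map (𝟙 A ^ (l ^ n)) =
        (𝟙 (Red.bc h A) ^ (l ^ n) : Red.bc h A ⟶ Red.bc h A) := by
      have := map_pow ((Over.pullback h).homMonoidHom (X := A) (M := A)) (𝟙 A) (l ^ n)
      simpa using this
    have e1 : i'.left ≫ q ≫ (𝟙 A ^ (l ^ n) : A ⟶ A).left =
        (𝟙 B' ^ (l ^ n) : B' ⟶ B').left ≫ i'.left ≫ q := by
      have e2 : ((Over.pullback h).map (𝟙 A ^ (l ^ n))).left ≫ q = q ≫ (𝟙 A ^ (l ^ n) : A ⟶ A).left :=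
        pullback.lift_fst _ _ _
      rw [← e2, hpow, ← Category.assoc, ← Category.assoc, ← Over.comp_left, ← Over.comp_left,
        MonObj.comp_pow, Category.comp_id, MonObj.pow_comp, Category.id_comp]
    have e3 : η[B'].left ≫ i'.left ≫ q = h ≫ η[A].left := by
      rw [← Category.assoc, ← Over.comp_left, IsMonHom.one_hom i']
      exact unit_fst h A
    calc η[A].left (h t) = (h ≫ η[A].left) t := rfl
      _ = (i'.left ≫ q) (η[B'].left t) := (congr($e3 t)).symm
      _ = (i'.left ≫ q) ((𝟙 B' ^ (l ^ n) : B' ⟶ B').left w) := by rw [ht]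
      _ = (𝟙 A ^ (l ^ n) : A ⟶ A).left (q (i'.left w)) := (congr($e1 w)).symm
  have hpre : q ⁻¹' SS = T := by
    refine Set.Subset.antisymm (fun w hw => ?_) (Set.subset_preimage_image q T)
    obtain ⟨w₀, hw₀, e⟩ := hw
    rw [subsingleton_fibre hK A (torsSet_point hl (hSS _ ⟨w₀, hw₀, rfl⟩)).1 (w := w) (w' := w₀) e.symm rfl]
    exact hw₀
  let Z : TopologicalSpace.Closeds A.left := ⟨closure SS, isClosed_closure⟩
  haveI : UniversallyOpen h := inferInstance
  haveI : UniversallyOpen q := inferInstanceAs (UniversallyOpen (pullback.fst A.hom h))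
  have hW : q ⁻¹' (Z : Set A.left) = W := by
    show q ⁻¹' closure SS = W
    rw [q.isOpenMap.preimage_closure_eq_closure_preimage q.continuous, hpre, hT]
  -- the subvariety
  let j₀ := (Scheme.IdealSheafData.vanishingIdeal Z).subschemeι
  haveI := H23.RedSub.isReduced_vanishingIdeal Z
  have hr : Set.range j₀ = (Z : Set A.left) := H23.RedSub.range_vanishingIdeal Z
  let B : Over (Spec (CommRingCat.of k)) := Over.mk (j₀ ≫ A.hom)
  let j : B ⟶ A := Over.homMk j₀ rfl
  haveI : IsClosedImmersion j.left := inferInstanceAs (IsClosedImmersion j₀)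
  haveI : IsReduced B.left := inferInstanceAs (IsReduced (Scheme.IdealSheafData.vanishingIdeal Z).subscheme)
  haveI : Mono j := (Over.forget _).mono_of_mono_map (inferInstanceAs (Mono j.left))
  haveI : IsProper B.hom := inferInstanceAs (IsProper (j₀ ≫ A.hom))
  have hrj : Set.range j.left = (Z : Set A.left) := hr
  haveI : GeometricallyReduced B.hom := by
    refine geometricallyReduced_of_dense B.hom (j.left ⁻¹' SS) ?_ fun s hs => ?_
    · rw [dense_iff_closure_eq, j.left.isEmbedding.closure_eq_preimage_closure_image,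
        Set.image_preimage_eq_of_subset (subset_closure.trans hrj.ge), Set.eq_univ_iff_forall]
      exact fun b => hrj.subset ⟨b, rfl⟩
    · obtain ⟨-, h1, h2⟩ := torsSet_point hl (hSS _ hs)
      haveI := FComplLib.isIso_residueFieldMap j.left s
      have e : Spec.map (j.left.residueFieldMap s) ≫ A.left.fromSpecResidueField (j.left s) ≫ A.hom =
          B.left.fromSpecResidueField s ≫ B.hom := by
        rw [Scheme.Hom.SpecMap_residueFieldMap_fromSpecResidueField_assoc, Over.w j]
      constructor
      · rw [← e]; exact (MorphismProperty.cancel_left_of_respectsIso @FormallyUnramified _ _).2 h1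
      · rw [← e]; exact (MorphismProperty.cancel_left_of_respectsIso @LocallyOfFiniteType _ _).2 h2
  haveI : IsReduced (pullback B.hom h) :=
    GeometricallyReduced.geometrically_isReduced _ _ _ (IsPullback.of_hasPullback _ _)
  let jK : Red.bc h B ⟶ Red.bc h A := (Over.pullback h).map j
  haveI : IsClosedImmersion jK.left :=
    MorphismProperty.baseChange_map (P := @IsClosedImmersion) h j inferInstance
  have hjK : jK.left ≫ q = pullback.fst B.hom h ≫ j.left := pullback.lift_fst _ _ _
  have hsqK : IsPullback (pullback.fst B.hom h) jK.left j.left q := by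
    refine IsPullback.of_bot (v₂₁ := pullback.snd A.hom h) (v₂₂ := A.hom) (h₃₁ := h) ?_ hjK.symm
      (IsPullback.of_hasPullback A.hom h)
    rw [show jK.left ≫ pullback.snd A.hom h = pullback.snd B.hom h from Over.w jK, Over.w j]
    exact IsPullback.of_hasPullback B.hom h
  have hrK : Set.range jK.left = W := by
    refine Set.Subset.antisymm ?_ fun w hw => ?_
    · rintro _ ⟨b, rfl⟩
      rw [← hW]
      show q (jK.left b) ∈ (Z : Set A.left)
      rw [show q (jK.left b) = j.left (pullback.fst B.hom h b) from congr($hjK b)]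
      exact hrj.subset ⟨_, rfl⟩
    · obtain ⟨b, hb⟩ := hrj.ge (show q w ∈ (Z : Set A.left) from (hW.ge hw :))
      obtain ⟨p, -, hp⟩ := Scheme.exists_preimage_of_isPullback hsqK b w hb
      exact ⟨p, hp⟩
  haveI : IsIntegral B'.left := GeometricallyIntegral.isIntegral_of_subsingleton B'.hom
  haveI : IsReduced (Red.bc h B).left := inferInstanceAs (IsReduced (pullback B.hom h))
  obtain ⟨e₀, he₀⟩ := H23.RedSub.exists_iso_of_range_eq jK.left i'.left hrK
  let e : Red.bc h B ≅ B' := Over.isoMk e₀ (by
    rw [← Over.w i', reassoc_of% he₀]; exact Over.w jK)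
  have he : e.hom ≫ i' = jK := Over.OverMorphism.ext he₀
  -- factor maps through the subvariety
  have hfac : ∀ {U : Over (Spec (CommRingCat.of k))} (f : U ⟶ A), IsReduced U.left →
      (∃ g : Red.bc h U ⟶ B', g ≫ i' = (Over.pullback h).map f) → ∃ f₀ : U ⟶ B, f₀ ≫ j = f := by
    intro U f _ hg
    obtain ⟨g, hg⟩ := hg
    have hsub : Set.range f.left ⊆ Set.range j.left := by
      rintro _ ⟨y, rfl⟩
      haveI : Surjective (pullback.fst U.hom h) := inferInstance
      obtain ⟨y', rfl⟩ := (pullback.fst U.hom h).surjective y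
      have e1 : ((Over.pullback h).map f).left ≫ q = pullback.fst U.hom h ≫ f.left := pullback.lift_fst _ _ _
      rw [show f.left (pullback.fst U.hom h y') = q (((Over.pullback h).map f).left y') from (congr($e1 y')).symm,
        hrj]
      have e2 : ((Over.pullback h).map f).left y' ∈ W := by
        rw [← hg]; exact ⟨g.left y', rfl⟩
      exact hW.ge e2
    obtain ⟨f₀, hf₀⟩ := H23.RedSub.exists_lift_closed f.left j.left hsub
    exact ⟨Over.homMk f₀ (by rw [← Over.w j, reassoc_of% hf₀, Over.w f]), Over.OverMorphism.ext hf₀⟩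
  haveI : IsLocallyNoetherian B.left := LocallyOfFiniteType.isLocallyNoetherian B.hom
  have hBB : IsReduced (B ⊗ B).left := by
    haveI : Flat B.hom := inferInstance
    exact inferInstanceAs (IsReduced (pullback B.hom B.hom))
  haveI : IsReduced (𝟙_ (Over (Spec (CommRingCat.of k)))).left :=
    inferInstanceAs (IsReduced (Spec (CommRingCat.of k)))
  obtain ⟨u₀, hu₀⟩ := hfac η[A] inferInstance ⟨toUnit _ ≫ η[B'], by
    rw [Category.assoc, IsMonHom.one_hom i', AVFac.eta_eq_one A, Functor.map_one, Hom.one_def]⟩
  obtain ⟨m₀, hm₀⟩ := hfac ((fst B B ≫ j) * (snd B B ≫ j)) hBB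
    ⟨((Over.pullback h).map (fst B B) ≫ e.hom) * ((Over.pullback h).map (snd B B) ≫ e.hom), by
      rw [MonObj.mul_comp, Category.assoc, Category.assoc, he, Functor.map_mul, Functor.map_comp, Functor.map_comp]⟩
  obtain ⟨v₀, hv₀⟩ := hfac j⁻¹ inferInstance ⟨(e.hom)⁻¹, by
    rw [GrpObj.inv_comp, he, Functor.map_inv']⟩
  let inst : GrpObj B := GrpSchLib.grpObjOfFactor j u₀ hu₀ m₀ hm₀ v₀ hv₀
  have hjm : IsMonHom j := ⟨hu₀, by
    show m₀ ≫ j = _
    rw [hm₀]
    simp [Hom.mul_def]⟩
  haveI : ConnectedSpace B.left := by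
    haveI : Surjective (pullback.fst B.hom h) := inferInstance
    let f : B'.left ⟶ B.left := e₀.inv ≫ pullback.fst B.hom h
    exact Function.Surjective.connectedSpace f.surjective f.continuous
  haveI := H23.MaxAbelian.geometricallyIntegral_of_connected B
  exact ⟨B, inst, j, inferInstance, inferInstance, hjm, inferInstance, e, he⟩

end Groth.Agent.AVChow
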